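import Mathlib.CategoryTheory.Functor.KanExtension.Adjunction
import Mathlib.CategoryTheory.Limits.Types.Colimits
import Mathlib.CategoryTheory.Limits.Types.Filtered
import Mathlib.CategoryTheory.Limits.Types.Pullbacks
import Mathlib.CategoryTheory.Limits.Indization.IndObject
import Mathlib.CategoryTheory.Limits.FunctorCategory.Shapes.Pullbacks
import Mathlib.CategoryTheory.Comma.Over.Basic
import Mathlib.CategoryTheory.Adjunction.Limits
import Mathlib.CategoryTheory.Limits.Shapes.Pullback.IsPullback.Basic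
import Mathlib.CategoryTheory.Limits.FinallySmall

/-!
# Left Kan extensions of presheaves of sets, elementwise
-/

set_option autoImplicit false

universe u

open CategoryTheory Limits Opposite

namespace GrothLib.SGA4Lan

variable {C : Type u} [SmallCategory C] {C' : Type u} [SmallCategory C'] (u : C ⥤ C')

/-- The left Kan extension. -/
noncomputable abbrev L : (Cᵒᵖ ⥤ Type u) ⥤ (C'ᵒᵖ ⥤ Type u) := u.op.lan

/-- The unit. -/
noncomputable abbrev η (H : Cᵒᵖ ⥤ Type u) : H ⟶ u.op ⋙ (L u).obj H := u.op.lanUnit.app H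

/-- The element represented by `g : Z ⟶ u Y` and `h ∈ H Y`. -/
noncomputable def rep (H : Cᵒᵖ ⥤ Type u) {Z : C'} {Y : C} (g : Z ⟶ u.obj Y) (h : H.obj (op Y)) :
    ((L u).obj H).obj (op Z) :=
  ((L u).obj H).map g.op ((η u H).app (op Y) h)

theorem unit_eq (H : Cᵒᵖ ⥤ Type u) : (u.op.lanAdjunction (Type u)).unit.app H = η u H := by
  rw [Functor.lanAdjunction_unit]

/-- pointwise -/
noncomputable def isColimitAt (H : Cᵒᵖ ⥤ Type u) (Z : C') :
    IsColimit ((Functor.LeftExtension.mk ((L u).obj H) (η u H)).coconeAt (op Z)) :=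
  Functor.isPointwiseLeftKanExtensionOfIsLeftKanExtension _ (u.op.lanUnit.app H) (op Z)

theorem exists_rep (H : Cᵒᵖ ⥤ Type u) {Z : C'} (t : ((L u).obj H).obj (op Z)) :
    ∃ (Y : C) (g : Z ⟶ u.obj Y) (h : H.obj (op Y)), rep u H g h = t := by
  obtain ⟨a, h, hh⟩ := Types.jointly_surjective _ (isColimitAt u H Z) t
  exact ⟨a.left.unop, a.hom.unop, h, hh⟩

theorem rep_id (H : Cᵒᵖ ⥤ Type u) {Y : C} (h : H.obj (op Y)) : rep u H (𝟙 (u.obj Y)) h = (η u H).app (op Y) h := by
  simp [rep]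

theorem rep_map (H : Cᵒᵖ ⥤ Type u) {X Y : C} (a : X ⟶ Y) (h : H.obj (op Y)) :
    rep u H (u.map a) h = (η u H).app (op X) (H.map a.op h) :=
  (NatTrans.naturality_apply (η u H) a.op h).symm

theorem map_rep (H : Cᵒᵖ ⥤ Type u) {Z Z' : C'} {Y : C} (v : Z' ⟶ Z) (g : Z ⟶ u.obj Y) (h : H.obj (op Y)) :
    ((L u).obj H).map v.op (rep u H g h) = rep u H (v ≫ g) h := by
  simp [rep]

theorem unit_map {H K : Cᵒᵖ ⥤ Type u} (α : H ⟶ K) (X : C) (h : H.obj (op X)) :
    ((L u).map α).app (op (u.obj X)) ((η u H).app (op X) h) = (η u K).app (op X) (α.app (op X) h) :=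
  (ConcreteCategory.congr_hom (NatTrans.congr_app (u.op.lanUnit.naturality α) (op X)) h).symm

theorem lan_map_rep {H K : Cᵒᵖ ⥤ Type u} (α : H ⟶ K) {Z : C'} {Y : C} (g : Z ⟶ u.obj Y) (h : H.obj (op Y)) :
    ((L u).map α).app (op Z) (rep u H g h) = rep u K g (α.app (op Y) h) := by
  rw [rep, rep, NatTrans.naturality_apply ((L u).map α) g.op, unit_map]

theorem exists_invariant (H : Cᵒᵖ ⥤ Type u) (Z : C') {T : Type u}
    (ρ : ∀ Y : C, (Z ⟶ u.obj Y) → H.obj (op Y) → T)
    (hρ : ∀ (Y Y' : C) (w : Y' ⟶ Y) (g : Z ⟶ u.obj Y') (h : H.obj (op Y)),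
      ρ Y' g (H.map w.op h) = ρ Y (g ≫ u.map w) h) :
    ∃ F : ((L u).obj H).obj (op Z) → T, ∀ (Y : C) (g : Z ⟶ u.obj Y) (h : H.obj (op Y)), F (rep u H g h) = ρ Y g h := by
  let c : Cocone (CostructuredArrow.proj u.op (op Z) ⋙ H) :=
    { pt := T
      ι :=
        { app := fun a => ↾fun h => ρ a.left.unop a.hom.unop h
          naturality := fun a b φ => by
            ext h
            change ρ b.left.unop b.hom.unop (H.map φ.left h) = ρ a.left.unop a.hom.unop h
            have hw : b.hom.unop ≫ u.map φ.left.unop = a.hom.unop :=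
              congrArg Quiver.Hom.unop (CostructuredArrow.w φ)
            rw [← hw]
            exact hρ _ _ φ.left.unop b.hom.unop h } }
  exact ⟨(isColimitAt u H Z).desc c, fun Y g h =>
    ConcreteCategory.congr_hom ((isColimitAt u H Z).fac c (CostructuredArrow.mk (Y := op Y) g.op)) h⟩

section slice

variable [u.Faithful]

theorem exists_retraction (hu : ∀ X : C, (Over.post (X := X) u).Full) (H : Cᵒᵖ ⥤ Type u) (X : C) :
    ∃ F : ((L u).obj H).obj (op (u.obj X)) → Option (H.obj (op X)),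
      ∀ (Y : C) (g : u.obj X ⟶ u.obj Y) (h : H.obj (op Y)),
        (∀ a : X ⟶ Y, u.map a = g → F (rep u H g h) = some (H.map a.op h)) ∧
        ((∀ a : X ⟶ Y, u.map a ≠ g) → F (rep u H g h) = none) := by
  classical
  let ρ : ∀ Y : C, (u.obj X ⟶ u.obj Y) → H.obj (op Y) → Option (H.obj (op X)) := fun Y g h =>
    if e : ∃ a : X ⟶ Y, u.map a = g then some (H.map e.choose.op h) else none
  have hsome : ∀ (Y : C) (a : X ⟶ Y) (h : H.obj (op Y)), ρ Y (u.map a) h = some (H.map a.op h) := by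
    intro Y a h
    have e : ∃ b : X ⟶ Y, u.map b = u.map a := ⟨a, rfl⟩
    simp only [ρ, dif_pos e, u.map_injective e.choose_spec]
  obtain ⟨F, hF⟩ := exists_invariant u H (u.obj X) ρ (fun Y Y' w g h => by
    by_cases e : ∃ a : X ⟶ Y', u.map a = g
    · obtain ⟨a, rfl⟩ := e
      rw [← u.map_comp, hsome, hsome]
      simp
    · have e' : ¬ ∃ b : X ⟶ Y, u.map b = g ≫ u.map w := by
        rintro ⟨b, hb⟩
        haveI := hu Y
        obtain ⟨v, hv⟩ := (Over.post (X := Y) u).map_surjective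
          (Over.homMk g hb.symm : (Over.post u).obj (Over.mk b) ⟶ (Over.post u).obj (Over.mk w))
        exact e ⟨v.left, congrArg CommaMorphism.left hv⟩
      simp only [ρ, dif_neg e, dif_neg e'])
  refine ⟨F, fun Y g h => ⟨fun a ha => ?_, fun hn => ?_⟩⟩
  · rw [hF, ← ha, hsome]
  · rw [hF]
    exact dif_neg fun ⟨a, ha⟩ => hn a ha

theorem unit_injective_of_slice (hu : ∀ X : C, (Over.post (X := X) u).Full) (H : Cᵒᵖ ⥤ Type u) (X : C) :
    Function.Injective ((η u H).app (op X)) := by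
  obtain ⟨F, hF⟩ := exists_retraction u hu H X
  intro a b hab
  have h1 := (hF X (𝟙 _) a).1 (𝟙 X) (u.map_id X)
  have h2 := (hF X (𝟙 _) b).1 (𝟙 X) (u.map_id X)
  rw [rep_id] at h1 h2
  simpa [hab, h2] using h1.symm

theorem isPullback_unit (hu : ∀ X : C, (Over.post (X := X) u).Full) {H K : Cᵒᵖ ⥤ Type u} (α : H ⟶ K) :
    IsPullback (η u H) α (((Functor.whiskeringLeft Cᵒᵖ C'ᵒᵖ (Type u)).obj u.op).map ((L u).map α)) (η u K) := by
  refine IsPullback.of_forall_isPullback_app fun ⟨X⟩ => (Types.isPullback_iff _ _ _ _).2 ⟨?_, ?_, ?_⟩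
  · ext h
    exact unit_map u α X h
  · exact fun a b hab => unit_injective_of_slice u hu H X hab.1
  · intro t k htk
    obtain ⟨Y, g, h0, rfl⟩ := exists_rep u H t
    obtain ⟨F, hF⟩ := exists_retraction u hu K X
    have e : rep u K g (α.app (op Y) h0) = rep u K (𝟙 (u.obj X)) k := by
      rw [rep_id, ← lan_map_rep]; exact htk
    have hk := (hF X (𝟙 _) k).1 (𝟙 X) (u.map_id X)
    rw [← e] at hk
    by_cases ha : ∃ a : X ⟶ Y, u.map a = g
    · obtain ⟨a, rfl⟩ := ha
      refine ⟨H.map a.op h0, (rep_map u H a h0).symm, ?_⟩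
      rw [NatTrans.naturality_apply α a.op]
      have := ((hF Y (u.map a) (α.app (op Y) h0)).1 a rfl).symm.trans hk
      simpa using this
    · rw [(hF Y g (α.app (op Y) h0)).2 (fun a h => ha ⟨a, h⟩)] at hk
      simp at hk

end slice

theorem lan_faithful_of_unit_injective {F G : Cᵒᵖ ⥤ Type u}
    (hG : ∀ X : C, Function.Injective ((η u G).app (op X))) {φ ψ : F ⟶ G}
    (h : (L u).map φ = (L u).map ψ) : φ = ψ := by
  ext ⟨X⟩ x
  apply hG X
  exact (unit_map u φ X x).symm.trans ((congrArg (fun m : (L u).obj F ⟶ (L u).obj G => (m.app (op (u.obj X))) ((η u F).app (op X) x)) h).trans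
    (unit_map u ψ X x))

theorem rep_yoneda_desc (Y : C) {Z : C'} (φ : (L u).obj (yoneda.obj Y) ⟶ yoneda.obj (u.obj Y))
    (hφ : ∀ (X : C) (a : X ⟶ Y), φ.app (op (u.obj X)) ((η u (yoneda.obj Y)).app (op X) a) = u.map a)
    (g : Z ⟶ u.obj Y) : φ.app (op Z) (rep u (yoneda.obj Y) g (𝟙 Y)) = g := by
  rw [rep, NatTrans.naturality_apply φ g.op, hφ Y (𝟙 Y)]
  simp

theorem exists_desc (Y : C) : ∃ φ : (L u).obj (yoneda.obj Y) ⟶ yoneda.obj (u.obj Y),
    ∀ (X : C) (a : X ⟶ Y), φ.app (op (u.obj X)) ((η u (yoneda.obj Y)).app (op X) a) = u.map a := by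
  let ψ : yoneda.obj Y ⟶ u.op ⋙ yoneda.obj (u.obj Y) :=
    { app := fun X => ↾fun a => u.map a
      naturality := fun X X' f => by ext a; exact u.map_comp f.unop a }
  refine ⟨((L u).obj (yoneda.obj Y)).descOfIsLeftKanExtension (η u (yoneda.obj Y)) _ ψ, fun X a => ?_⟩
  exact ConcreteCategory.congr_hom
    (((L u).obj (yoneda.obj Y)).descOfIsLeftKanExtension_fac_app (η u (yoneda.obj Y)) _ ψ (op X)) a

theorem unit_injective_yoneda [u.Faithful] (Y X : C) : Function.Injective ((η u (yoneda.obj Y)).app (op X)) := by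
  obtain ⟨φ, hφ⟩ := exists_desc u Y
  intro a b h
  apply u.map_injective
  rw [← hφ X a, ← hφ X b, h]

theorem unit_injective_ind [u.Faithful] {G : Cᵒᵖ ⥤ Type u} (hG : IsIndObject G) (X : C) :
    Function.Injective ((η u G).app (op X)) := by
  obtain ⟨P⟩ := hG.nonempty_presentation
  let E₁ := (evaluation Cᵒᵖ (Type u)).obj (op X)
  let E₂ := (L u) ⋙ (evaluation C'ᵒᵖ (Type u)).obj (op (u.obj X))
  haveI : PreservesColimitsOfSize.{u, u} (L u) := (u.op.lanAdjunction (Type u)).leftAdjoint_preservesColimits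
  have h₁ : IsColimit (E₁.mapCocone P.cocone) := isColimitOfPreserves E₁ P.coconeIsColimit
  have h₂ : IsColimit (E₂.mapCocone P.cocone) := isColimitOfPreserves E₂ P.coconeIsColimit
  intro a b hab
  obtain ⟨i, a', rfl⟩ := Types.jointly_surjective _ h₁ a
  obtain ⟨j, b', rfl⟩ := Types.jointly_surjective _ h₁ b
  obtain ⟨k, p, q, e⟩ := (Types.FilteredColimit.isColimit_eq_iff _ h₂
    (xi := (η u _).app (op X) a') (xj := (η u _).app (op X) b')).1
    ((unit_map u (P.ι.app i) X a').trans (hab.trans (unit_map u (P.ι.app j) X b').symm))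
  refine (Types.FilteredColimit.isColimit_eq_iff _ h₁).2 ⟨k, p, q, unit_injective_yoneda u (P.F.obj k) X ?_⟩
  exact (unit_map u (yoneda.map (P.F.map p)) X a').symm.trans (e.trans (unit_map u (yoneda.map (P.F.map q)) X b'))

theorem faithful_of_injective
    (h : ∀ X Y : C, Function.Injective (fun φ : yoneda.obj X ⟶ yoneda.obj Y => (L u).map φ)) : u.Faithful := by
  refine ⟨fun {X Y a b} hab => yoneda.map_injective (h X Y ?_)⟩
  apply Functor.hom_ext_of_isLeftKanExtension _ (η u (yoneda.obj X))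
  ext ⟨Z⟩ x
  change ((L u).map (yoneda.map a)).app (op (u.obj Z)) ((η u _).app (op Z) x) =
    ((L u).map (yoneda.map b)).app (op (u.obj Z)) ((η u _).app (op Z) x)
  rw [unit_map, unit_map]
  have e : ∀ c : Z ⟶ Y, (η u (yoneda.obj Y)).app (op Z) c = rep u (yoneda.obj Y) (u.map c) (𝟙 Y) := fun c => by
    rw [rep_map]; simp
  refine ((e (x ≫ a)).trans ?_).trans (e (x ≫ b)).symm
  rw [u.map_comp, u.map_comp, hab]

theorem full_of_surjective
    (h : ∀ X Y : C, Function.Surjective (fun φ : yoneda.obj X ⟶ yoneda.obj Y => (L u).map φ)) : u.Full := by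
  refine ⟨fun {X Y} g => ?_⟩
  let ξ : (u.op ⋙ (L u).obj (yoneda.obj Y)).obj (op X) := rep u (yoneda.obj Y) g (𝟙 Y)
  let β : yoneda.obj X ⟶ u.op ⋙ (L u).obj (yoneda.obj Y) := yonedaEquiv.symm ξ
  obtain ⟨φ, hφ⟩ := h X Y (((L u).obj (yoneda.obj X)).descOfIsLeftKanExtension (η u (yoneda.obj X)) _ β)
  refine ⟨φ.app (op X) (𝟙 X), ?_⟩
  obtain ⟨d, hd⟩ := exists_desc u Y
  have e1 : (η u (yoneda.obj Y)).app (op X) (φ.app (op X) (𝟙 X)) = ξ := by
    rw [← unit_map u φ X (𝟙 X), show (L u).map φ = _ from hφ]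
    refine (ConcreteCategory.congr_hom (((L u).obj (yoneda.obj X)).descOfIsLeftKanExtension_fac_app
      (η u (yoneda.obj X)) _ β (op X)) (𝟙 X)).trans ?_
    exact yonedaEquiv.apply_symm_apply ξ
  have e2 := congrArg (d.app (op (u.obj X))) e1
  rw [hd X (φ.app (op X) (𝟙 X))] at e2
  exact e2.trans (rep_yoneda_desc u Y d hd g)

theorem bijective_of_full_faithful [u.Full] [u.Faithful] (F G : Cᵒᵖ ⥤ Type u) :
    Function.Bijective (fun φ : F ⟶ G => (L u).map φ) := by
  haveI := (u.op.lanAdjunction (Type u)).fullyFaithfulLOfIsIsoUnit.full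
  haveI := (u.op.lanAdjunction (Type u)).fullyFaithfulLOfIsIsoUnit.faithful
  exact ⟨fun a b h => (L u).map_injective h, (L u).map_surjective⟩

theorem exists_retract_of_iso {X' : C'} {F : Cᵒᵖ ⥤ Type u} (e : (L u).obj F ≅ yoneda.obj X') :
    ∃ (X : C) (i : X' ⟶ u.obj X) (r : u.obj X ⟶ X'), i ≫ r = 𝟙 X' := by
  obtain ⟨X, g, h, hh⟩ := exists_rep u F (e.inv.app (op X') (𝟙 X'))
  refine ⟨X, g, e.hom.app (op (u.obj X)) ((η u F).app (op X) h), ?_⟩
  have := congrArg (e.hom.app (op X')) hh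
  rw [rep, NatTrans.naturality_apply e.hom g.op] at this
  exact this.trans (ConcreteCategory.congr_hom (e.inv_hom_id_app (op X')) (𝟙 X'))

theorem isIndObject_restrict [u.Full] [u.Faithful]
    (hr : ∀ X' : C', ∃ (X : C) (i : X' ⟶ u.obj X) (r : u.obj X ⟶ X'), i ≫ r = 𝟙 X')
    {G' : C'ᵒᵖ ⥤ Type u} (hG : IsIndObject G') : IsIndObject (u.op ⋙ G') := by
  rw [isIndObject_iff] at hG ⊢
  haveI := hG.1
  let el : ∀ {X : C}, G'.obj (op (u.obj X)) → CostructuredArrow yoneda (u.op ⋙ G') := fun {X} s =>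
    CostructuredArrow.mk ((yonedaEquiv (F := u.op ⋙ G') (X := X)).symm s)
  let el' : ∀ {X : C'}, G'.obj (op X) → CostructuredArrow yoneda G' := fun {X} s =>
    CostructuredArrow.mk (yonedaEquiv.symm s)
  have hv : ∀ {D : Type u} [SmallCategory D] {P : Dᵒᵖ ⥤ Type u} {a b : CostructuredArrow yoneda P} (c : a ⟶ b),
      P.map c.left.op (yonedaEquiv b.hom) = yonedaEquiv a.hom := fun {D _ P a b} c => by
    rw [yonedaEquiv_naturality, CostructuredArrow.w]
  have hmk : ∀ {D : Type u} [SmallCategory D] {P : Dᵒᵖ ⥤ Type u} {a b : CostructuredArrow yoneda P} (c : a.left ⟶ b.left),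
      P.map c.op (yonedaEquiv b.hom) = yonedaEquiv a.hom → yoneda.map c ≫ b.hom = a.hom := fun {D _ P a b} c hc => by
    apply yonedaEquiv.injective
    rw [← yonedaEquiv_naturality, hc]
  refine ⟨?_, finallySmall_of_essentiallySmall _⟩
  let sOf : ∀ a : CostructuredArrow yoneda (u.op ⋙ G'), G'.obj (op (u.obj a.left)) := fun a =>
    yonedaEquiv (F := u.op ⋙ G') a.hom
  have hobj : ∀ a b : CostructuredArrow yoneda (u.op ⋙ G'), ∃ (c : _) (_ : a ⟶ c) (_ : b ⟶ c), True := by
    intro a b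
    obtain ⟨m, fa, fb, -⟩ := IsFilteredOrEmpty.cocone_objs
      (el' (X := u.obj a.left) (sOf a)) (el' (X := u.obj b.left) (sOf b))
    obtain ⟨X, i, r, hir⟩ := hr m.left
    have key : ∀ (a : CostructuredArrow yoneda (u.op ⋙ G')) (fa : el' (X := u.obj a.left) (sOf a) ⟶ m),
        Nonempty (a ⟶ el (G'.map r.op (yonedaEquiv m.hom))) := fun a fa => by
      obtain ⟨c, hc⟩ := u.map_surjective (fa.left ≫ i)
      refine ⟨CostructuredArrow.homMk c (hmk (b := el _) c ?_)⟩
      change G'.map (u.map c).op (yonedaEquiv (F := u.op ⋙ G') (X := X) (yonedaEquiv.symm _)) = _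
      rw [Equiv.apply_symm_apply, hc, ← ConcreteCategory.comp_apply, ← G'.map_comp, ← op_comp, Category.assoc,
        hir, Category.comp_id, hv fa]
      exact yonedaEquiv.apply_symm_apply _
    exact ⟨_, (key a fa).some, (key b fb).some, trivial⟩
  haveI : Nonempty (CostructuredArrow yoneda (u.op ⋙ G')) := by
    obtain ⟨m⟩ := IsFiltered.nonempty (C := CostructuredArrow yoneda G')
    obtain ⟨X, i, r, hir⟩ := hr m.left
    exact ⟨el (G'.map r.op (yonedaEquiv m.hom))⟩
  haveI : IsFilteredOrEmpty (CostructuredArrow yoneda (u.op ⋙ G')) := by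
    refine { cocone_objs := hobj, cocone_maps := fun a b p q => ?_ }
    let A := el' (X := u.obj a.left) (sOf a)
    let B := el' (X := u.obj b.left) (sOf b)
    have hp : ∀ p : a ⟶ b, yoneda.map (u.map p.left) ≫ B.hom = A.hom := fun p => hmk (a := A) (b := B) _ (by
      change G'.map (u.map p.left).op (yonedaEquiv (yonedaEquiv.symm (sOf b))) =
        yonedaEquiv (yonedaEquiv.symm (sOf a))
      rw [Equiv.apply_symm_apply, Equiv.apply_symm_apply]
      exact hv p)
    obtain ⟨m, c, hc⟩ := IsFilteredOrEmpty.cocone_maps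
      (CostructuredArrow.homMk (f := A) (f' := B) (u.map p.left) (hp p))
      (CostructuredArrow.homMk (f := A) (f' := B) (u.map q.left) (hp q))
    obtain ⟨X, i, r, hir⟩ := hr m.left
    obtain ⟨d, hd⟩ := u.map_surjective (c.left ≫ i)
    refine ⟨el (G'.map r.op (yonedaEquiv m.hom)), CostructuredArrow.homMk d (hmk (b := el _) d ?_),
      CostructuredArrow.hom_ext _ _ (u.map_injective ?_)⟩
    · change G'.map (u.map d).op (yonedaEquiv (F := u.op ⋙ G') (X := X) (yonedaEquiv.symm _)) = _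
      rw [Equiv.apply_symm_apply, hd, ← ConcreteCategory.comp_apply, ← G'.map_comp, ← op_comp, Category.assoc,
        hir, Category.comp_id, hv c]
      exact yonedaEquiv.apply_symm_apply _
    · have := congrArg CommaMorphism.left hc
      change u.map p.left ≫ c.left = u.map q.left ≫ c.left at this
      change u.map (p.left ≫ d) = u.map (q.left ≫ d)
      rw [u.map_comp, u.map_comp, hd, ← Category.assoc, this, Category.assoc]
  exact ⟨⟩

theorem exists_iso_lan [u.Full] [u.Faithful]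
    (hr : ∀ X' : C', ∃ (X : C) (i : X' ⟶ u.obj X) (r : u.obj X ⟶ X'), i ≫ r = 𝟙 X')
    {G' : C'ᵒᵖ ⥤ Type u} (hG : IsIndObject G') :
    ∃ F : Cᵒᵖ ⥤ Type u, IsIndObject F ∧ Nonempty ((L u).obj F ≅ G') := by
  refine ⟨u.op ⋙ G', isIndObject_restrict u hr hG, ?_⟩
  let ad := u.op.lanAdjunction (Type u)
  let ε := ad.counit.app G'
  have hbij : ∀ X : C, Function.Bijective (ε.app (op (u.obj X))) := fun X => by
    have h := ad.right_triangle_components G'
    have hi : IsIso (((Functor.whiskeringLeft Cᵒᵖ C'ᵒᵖ (Type u)).obj u.op).map ε) := by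
      haveI : IsIso (ad.unit.app (((Functor.whiskeringLeft Cᵒᵖ C'ᵒᵖ (Type u)).obj u.op).obj G')) := inferInstance
      rw [show ((Functor.whiskeringLeft Cᵒᵖ C'ᵒᵖ (Type u)).obj u.op).map ε =
        inv (ad.unit.app (((Functor.whiskeringLeft Cᵒᵖ C'ᵒᵖ (Type u)).obj u.op).obj G')) from
          IsIso.eq_inv_of_hom_inv_id h]
      infer_instance
    exact (isIso_iff_bijective _).1 ((NatTrans.isIso_iff_isIso_app _).1 hi (op X))
  have : ∀ Z : C'ᵒᵖ, IsIso (ε.app Z) := fun ⟨X'⟩ => by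
    obtain ⟨X, i, r, hir⟩ := hr X'
    refine (isIso_iff_bijective _).2 ⟨fun a b hab => ?_, fun y => ?_⟩
    · have h1 := (hbij X).1 ((NatTrans.naturality_apply ε r.op a).trans
        ((congrArg _ hab).trans (NatTrans.naturality_apply ε r.op b).symm))
      have h2 := congrArg ((((Functor.whiskeringLeft Cᵒᵖ C'ᵒᵖ (Type u)).obj u.op ⋙ u.op.lan).obj G').map i.op) h1
      rw [← ConcreteCategory.comp_apply, ← ConcreteCategory.comp_apply, ← Functor.map_comp, ← op_comp, hir,
        op_id, CategoryTheory.Functor.map_id] at h2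
      exact h2
    · obtain ⟨z, hz⟩ := (hbij X).2 (G'.map r.op y)
      refine ⟨(((Functor.whiskeringLeft Cᵒᵖ C'ᵒᵖ (Type u)).obj u.op ⋙ u.op.lan).obj G').map i.op z, ?_⟩
      refine (NatTrans.naturality_apply ε i.op z).trans ?_
      change G'.map i.op (ε.app (op (u.obj X)) z) = y
      rw [hz, ← ConcreteCategory.comp_apply, ← Functor.map_comp, ← op_comp, hir, op_id,
        CategoryTheory.Functor.map_id]
      rfl
  haveI : IsIso ε := NatIso.isIso_of_isIso_app ε
  exact ⟨asIso ε⟩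

end GrothLib.SGA4Lan
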